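import Cfsg.Agent.Lib.Comp.JTa.Base

set_option maxRecDepth 100000
set_option Elab.async false

namespace Cfsg.Lib.Comp.JTa

universe u

noncomputable def T1_R : List (List ℕ × ℕ) := [([1],1),
 ([2],1),
 ([3],1),
 ([4],1),
 ([5],1),
 ([6],1),
 ([2,3,4,5,6],0),
 ([1,2],1),
 ([1,3],1),
 ([2,3,2,3,1],0),
 ([1,4],1),
 ([2,4,2,4,1],0),
 ([3,4,3,4,1],0),
 ([1,5],1),
 ([2,5,2,5,1],0),
 ([3,5,3,5,1],0),
 ([4,5,4,5,1],0),
 ([1,6],1),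
 ([2,6,2,6,1],0),
 ([3,6,3,6,1],0),
 ([4,6,4,6,1],0),
 ([5,6,5,6,1],0)]

noncomputable def T1_n_1 : Net :=
 (Net.cons 16 (nat_lit 0x3108)
 (Net.cons 8 (nat_lit 0x9c009c)
 (Net.cons 4 (nat_lit 0x4)
 (Net.cons 2 (nat_lit 0x2200)
 (Net.cons 1 (nat_lit 0x55001455)
 (Net.cons 2 (nat_lit 0x3001130)
 (Net.cons 4 (nat_lit 0xf0f04)
 (Net.cons 8 (nat_lit 0x9c009c)
 (Net.cons 16 (nat_lit 0x3108)
 Net.nil)))))))))

noncomputable def T1_n_2 : Net :=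
 (Net.cons 16 (nat_lit 0x1e46)
 (Net.cons 8 (nat_lit 0x6a00a2)
 (Net.cons 4 (nat_lit 0x4080402)
 (Net.cons 2 (nat_lit 0x2222020)
 (Net.cons 1 (nat_lit 0x1414044)
 (Net.cons 2 (nat_lit 0x21231221)
 (Net.cons 4 (nat_lit 0xb020b08)
 (Net.cons 8 (nat_lit 0xa2006a)
 (Net.cons 16 (nat_lit 0xe1b9)
 Net.nil)))))))))

noncomputable def T1_n_3 : Net :=
 (Net.cons 16 (nat_lit 0xb948)
 (Net.cons 8 (nat_lit 0xb4003a)
 (Net.cons 4 (nat_lit 0x2080a02)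
 (Net.cons 2 (nat_lit 0x20020200)
 (Net.cons 1 (nat_lit 0x11411141)
 (Net.cons 2 (nat_lit 0x20330213)
 (Net.cons 4 (nat_lit 0x10d0907)
 (Net.cons 8 (nat_lit 0x3a00b4)
 (Net.cons 16 (nat_lit 0x46b7)
 Net.nil)))))))))

noncomputable def T1_n_4 : Net :=
 (Net.cons 16 (nat_lit 0xb280)
 (Net.cons 8 (nat_lit 0x60008)
 (Net.cons 4 (nat_lit 0x40c0804)
 (Net.cons 2 (nat_lit 0x2022220)
 (Net.cons 1 (nat_lit 0x11514140)
 (Net.cons 2 (nat_lit 0x30221020)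
 (Net.cons 4 (nat_lit 0x6010f0d)
 (Net.cons 8 (nat_lit 0x4d006e)
 (Net.cons 16 (nat_lit 0x45ee)
 Net.nil)))))))))

noncomputable def T1_n_5 : Net :=
 (Net.cons 16 (nat_lit 0x8298)
 (Net.cons 8 (nat_lit 0xd00084)
 (Net.cons 4 (nat_lit 0x80c0004)
 (Net.cons 2 (nat_lit 0x2000)
 (Net.cons 1 (nat_lit 0x5501155)
 (Net.cons 2 (nat_lit 0x13032021)
 (Net.cons 4 (nat_lit 0x80c040b)
 (Net.cons 8 (nat_lit 0xd00084)
 (Net.cons 16 (nat_lit 0xaa98)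
 Net.nil)))))))))

noncomputable def T1_n_6 : Net :=
 (Net.cons 16 (nat_lit 0x6b24)
 (Net.cons 8 (nat_lit 0x60007c)
 (Net.cons 4 (nat_lit 0xa04060c)
 (Net.cons 2 (nat_lit 0x2020020)
 (Net.cons 1 (nat_lit 0x11545144)
 (Net.cons 2 (nat_lit 0x31132113)
 (Net.cons 4 (nat_lit 0x3060405)
 (Net.cons 8 (nat_lit 0x83009f)
 (Net.cons 16 (nat_lit 0x949a)
 Net.nil)))))))))

noncomputable def T1_n : List Net := [Net.nil,
 T1_n_1,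
 T1_n_2,
 T1_n_3,
 T1_n_4,
 T1_n_5,
 T1_n_6]

theorem T1_n_ok : NetsOK 32 T1_n := netsOK_of (by decide +kernel)

theorem T1_n_rel : Rels (gp T1_n) T1_R := rels_of_relsB (k := 5) T1_n_ok (by norm_num) (by decide +kernel)

theorem T1_fin : finB 32 T1_n [1,2,3,4,5,6] 32 (runH 32 T1_n (fun x p => ptInv (nth Net.nil T1_n x) p) iv T1_R [] ([].map fun x => [x]) 0 []
  [0,4,8,12,16,24,28,32,36,40,44,48,52,56,60,64,68,76,80]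
  (defsH 32 T1_n (ones 352) [1,2,3,4,5] (Nat.shiftLeft 1 0) 0)) = true := by decide +kernel

theorem T1_idx : Idx.{u} iv (T1_R ++ []) ([].map fun x => [x]) [1,2,3,4,5,6] 32 :=
  Reach.idx T1_n_ok (reach_runH T1_n_ok (fun x p _ => ptInv_gp T1_n_ok x p) T1_n_rel (reach_defsH T1_n_ok _ _ _ _ _ _) _ _) T1_fin (by norm_num)

end Cfsg.Lib.Comp.JTa
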